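import Groth.Agent.Lib.RelAmple18.Ops
import Groth.Agent.Lib.CurveAmple18.Main
import Groth.Agent.Lib.FlatClosure19.Basic
import Groth.Agent.S2331

/-!
# Composition and domination of blowing ups trivialised along a morphism
-/

set_option autoImplicit false
set_option linter.style.haveILetI false
set_option backward.isDefEq.respectTransparency false
set_option backward.isDefEq.respectTransparency.types false

universe u

open CategoryTheory CategoryTheory.Limits AlgebraicGeometry TopologicalSpace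

noncomputable section

namespace Groth.Agent.YBlow2

variable {X Y Z W : Scheme.{u}}

/-- Pullback of a section given as a map from the structure sheaf. -/
def pullHom (f : Y ⟶ X) {L : X.Modules} (s : Coh.structureModule X ⟶ L) :
    Coh.structureModule Y ⟶ (Scheme.Modules.pullback f).obj L :=
  (PicLoc.pullbackStructureIso f).symm.hom ≫ (Scheme.Modules.pullback f).map s

theorem genLocus_pullHom (f : Y ⟶ X) {L : X.Modules} (hL : PicF.IsInvertible L)
    (s : Coh.structureModule X ⟶ L) :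
    CohB1.genLocus _ (pullHom f s) = f ⁻¹ᵁ CohB1.genLocus L s :=
  Amp.genLocus_pullback f hL s _

theorem genLocus_eq_top_of_isIso {L : X.Modules} (s : Coh.structureModule X ⟶ L) [IsIso s] :
    CohB1.genLocus L s = ⊤ :=
  le_antisymm le_top (le_sSup (show IsIso ((Scheme.Modules.restrictFunctor (⊤ : X.Opens).ι).map s) from inferInstance))

/-- A section of an invertible module becomes a trivialisation exactly when it generates on the image. -/
theorem isIso_pullback_map_iff (f : Y ⟶ X) {L : X.Modules} (hL : PicF.IsInvertible L)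
    (s : Coh.structureModule X ⟶ L) :
    IsIso ((Scheme.Modules.pullback f).map s) ↔ f ⁻¹ᵁ CohB1.genLocus L s = ⊤ := by
  rw [← genLocus_pullHom f hL]
  refine ⟨fun h => ?_, fun h => ?_⟩
  · haveI := h
    haveI : IsIso (pullHom f s) := IsIso.comp_isIso (f := (PicLoc.pullbackStructureIso f).symm.hom)
    exact genLocus_eq_top_of_isIso _
  · haveI : IsIso (pullHom f s) :=
      CurveAmple18.isIso_of_genLocus_eq_top (PicLoc.isInvertible_pullback f hL) _ h
    haveI : IsIso ((PicLoc.pullbackStructureIso f).symm.hom ≫ (Scheme.Modules.pullback f).map s) :=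
      inferInstanceAs (IsIso (pullHom f s))
    exact IsIso.of_isIso_comp_left (PicLoc.pullbackStructureIso f).symm.hom _

theorem genLocus_le_powHom {L : X.Modules} (hL : PicF.IsInvertible L) (s : Coh.structureModule X ⟶ L) :
    ∀ n : ℕ, 0 < n → CohB1.genLocus (CohB1.tensorPow L n) (SecTwist.powHom s n) = CohB1.genLocus L s
  | n + 1, _ => Amp.genLocus_powHom hL s n

/-- The trivialised twist: the module and section `L ⊗ g^*K^n`, `ε ⊗ g^*δ^n`. -/
theorem exists_twist [CompactSpace Z] {f : X ⟶ W} {g : W ⟶ Z} [QuasiCompact f] [QuasiCompact g]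
    {L : X.Modules} {K : W.Modules} (ε : Coh.structureModule X ⟶ L) (δ : Coh.structureModule W ⟶ K)
    (hL : RelAmple.IsRelAmple f L) (hK : RelAmple.IsRelAmple g K) (h : Y ⟶ X)
    (hε : IsIso ((Scheme.Modules.pullback h).map ε)) (hδ : IsIso ((Scheme.Modules.pullback (h ≫ f)).map δ)) :
    ∃ (M : X.Modules) (η : Coh.structureModule X ⟶ M),
      RelAmple.IsRelAmple (f ≫ g) M ∧ IsIso ((Scheme.Modules.pullback h).map η) := by
  obtain ⟨n, hn, hn'⟩ := S2331.result f g L K hL hK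
  have hLi := RA.isInvertible_of_isRelAmple f hL
  have hKi := RA.isInvertible_of_isRelAmple g hK
  have hKn := Amp.isInvertible_tensorPow hKi n
  refine ⟨_, SecTwist.tmulHom ε (pullHom f (SecTwist.powHom δ n)), hn' n le_rfl, ?_⟩
  rw [isIso_pullback_map_iff h (M2.isInvertible_tensor hLi (PicLoc.isInvertible_pullback f hKn)),
    Amp.genLocus_tmulHom hLi (PicLoc.isInvertible_pullback f hKn), genLocus_pullHom f hKn,
    genLocus_le_powHom hKi δ n hn]
  rw [isIso_pullback_map_iff h hLi] at hε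
  rw [isIso_pullback_map_iff (h ≫ f) hKi, Scheme.Hom.comp_preimage] at hδ
  refine eq_top_iff.2 fun y _ => ⟨?_, ?_⟩
  · exact hε.ge (Opens.mem_top y)
  · exact hδ.ge (Opens.mem_top y)

variable {f : Y ⟶ X}

/-- Transitivity. -/
theorem comp {Xi Xj : Scheme.{u}} [CompactSpace X] (fi : Y ⟶ Xi) (gi : Xi ⟶ X) (fj : Y ⟶ Xj) (gij : Xj ⟶ Xi)
    [IsProper gi] [IsProper gij] (hfi : fi ≫ gi = f) (hfj : fj ≫ gij = fi)
    {L : Xi.Modules} (ε : Coh.structureModule Xi ⟶ L) (hL : RelAmple.IsRelAmple gi L)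
    (hε : IsIso ((Scheme.Modules.pullback fi).map ε))
    {L' : Xj.Modules} (ε' : Coh.structureModule Xj ⟶ L') (hL' : RelAmple.IsRelAmple gij L')
    (hε' : IsIso ((Scheme.Modules.pullback fj).map ε')) :
    fj ≫ gij ≫ gi = f ∧ ∃ (M : Xj.Modules) (η : Coh.structureModule Xj ⟶ M),
      RelAmple.IsRelAmple (gij ≫ gi) M ∧ IsIso ((Scheme.Modules.pullback fj).map η) := by
  subst hfj
  exact ⟨by rw [← Category.assoc, hfi], exists_twist ε' ε hL' hL fj hε' hε⟩

/-- Two trivialised blowing ups are dominated by a third. -/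
theorem dominate {X₁ X₂ : Scheme.{u}} [CompactSpace X] [QuasiSeparatedSpace X] [CompactSpace Y]
    (f₁ : Y ⟶ X₁) (g₁ : X₁ ⟶ X) (f₂ : Y ⟶ X₂) (g₂ : X₂ ⟶ X) [IsProper g₁] [IsProper g₂]
    (h₁ : f₁ ≫ g₁ = f) (h₂ : f₂ ≫ g₂ = f)
    {L₁ : X₁.Modules} (ε₁ : Coh.structureModule X₁ ⟶ L₁) (hL₁ : RelAmple.IsRelAmple g₁ L₁)
    (hε₁ : IsIso ((Scheme.Modules.pullback f₁).map ε₁))
    {L₂ : X₂.Modules} (ε₂ : Coh.structureModule X₂ ⟶ L₂) (hL₂ : RelAmple.IsRelAmple g₂ L₂)
    (hε₂ : IsIso ((Scheme.Modules.pullback f₂).map ε₂)) :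
    ∃ (X₃ : Scheme.{u}) (f₃ : Y ⟶ X₃) (g₃ : X₃ ⟶ X) (d₁ : X₃ ⟶ X₁) (d₂ : X₃ ⟶ X₂),
      (IsSchemeTheoreticallyDominant f₃ ∧ IsProper g₃ ∧ f₃ ≫ g₃ = f ∧
        ∃ (L : X₃.Modules) (ε : Coh.structureModule X₃ ⟶ L),
          RelAmple.IsRelAmple g₃ L ∧ IsIso ((Scheme.Modules.pullback f₃).map ε)) ∧
      f₃ ≫ d₁ = f₁ ∧ d₁ ≫ g₁ = g₃ ∧ f₃ ≫ d₂ = f₂ ∧ d₂ ≫ g₂ = g₃ := by
  let p₁ := pullback.fst g₁ g₂
  let p₂ := pullback.snd g₁ g₂
  let h : Y ⟶ pullback g₁ g₂ := pullback.lift f₁ f₂ (h₁.trans h₂.symm)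
  haveI : IsProper p₂ := MorphismProperty.pullback_snd (P := @IsProper) g₁ g₂ inferInstance
  haveI : QuasiSeparatedSpace (pullback g₁ g₂ : Scheme.{u}) :=
    quasiSeparatedSpace_of_quasiSeparated (p₂ ≫ g₂)
  haveI : QuasiCompact h := quasiCompact_of_compactSpace h
  have hL₁' : RelAmple.IsRelAmple p₂ ((Scheme.Modules.pullback p₁).obj L₁) :=
    RA.isRelAmple_of_isPullback (IsPullback.of_hasPullback g₁ g₂) hL₁
  have hL₁i := RA.isInvertible_of_isRelAmple g₁ hL₁
  have hpε : IsIso ((Scheme.Modules.pullback h).map (pullHom p₁ ε₁)) := by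
    rw [isIso_pullback_map_iff h (PicLoc.isInvertible_pullback p₁ hL₁i), genLocus_pullHom p₁ hL₁i,
      ← Scheme.Hom.comp_preimage, pullback.lift_fst, ← isIso_pullback_map_iff f₁ hL₁i]
    exact hε₁
  obtain ⟨M, η, hM, hη⟩ := exists_twist (pullHom p₁ ε₁) ε₂ hL₁' hL₂ h hpε
    (by rw [pullback.lift_snd]; exact hε₂)
  have hMi := RA.isInvertible_of_isRelAmple _ hM
  refine ⟨h.image, h.toImage, h.imageι ≫ p₂ ≫ g₂, h.imageι ≫ p₁, h.imageι ≫ p₂,
    ⟨FlatClosure19.isSchemeTheoreticallyDominant_toImage h, inferInstance,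
      by rw [Scheme.Hom.toImage_imageι_assoc, pullback.lift_snd_assoc, h₂],
      (Scheme.Modules.pullback h.imageι).obj M, pullHom h.imageι η,
      RA.isRelAmple_pullback_of_isInducing (p₂ ≫ g₂) h.imageι h.imageι.isEmbedding.isInducing hM, ?_⟩,
    by rw [Scheme.Hom.toImage_imageι_assoc, pullback.lift_fst],
    by rw [Category.assoc, pullback.condition], by rw [Scheme.Hom.toImage_imageι_assoc, pullback.lift_snd],
    by rw [Category.assoc]⟩
  rw [isIso_pullback_map_iff _ (PicLoc.isInvertible_pullback _ hMi), genLocus_pullHom h.imageι hMi,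
    ← Scheme.Hom.comp_preimage, Scheme.Hom.toImage_imageι, ← isIso_pullback_map_iff h hMi]
  exact hη

end Groth.Agent.YBlow2
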